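import Groth.Agent.SiteBase.ModColimits
import Mathlib.AlgebraicGeometry.Modules.Sheaf
import Mathlib.Topology.Sheaves.Skyscraper
import Mathlib.Topology.Sheaves.Stalks
import Mathlib.AlgebraicGeometry.Noetherian
import Mathlib.CategoryTheory.Limits.Types.Filtered
import Mathlib.Algebra.Category.Grp.FilteredColimits

/-!
# Sections of filtered colimits of sheaves of modules over quasi-compact opens
-/

set_option autoImplicit false
set_option linter.style.haveILetI false

noncomputable section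

universe u

open CategoryTheory CategoryTheory.Limits AlgebraicGeometry TopologicalSpace Opposite

namespace Groth.Agent.ModColimLib

variable {X : Scheme.{u}}

lemma res_res (M : X.Modules) {A B C C' : X.Opens} (h₁ : B ≤ A) (h₂ : C ≤ B) (h₁' : C' ≤ A) (h₂' : C ≤ C')
    (s : Γ(M, A)) :
    M.presheaf.map (homOfLE h₂).op (M.presheaf.map (homOfLE h₁).op s) =
      M.presheaf.map (homOfLE h₂').op (M.presheaf.map (homOfLE h₁').op s) := by
  rw [← ConcreteCategory.comp_apply, ← ConcreteCategory.comp_apply, ← Functor.map_comp, ← Functor.map_comp]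
  rfl

/-- The stalk functor on sheaves of modules. -/
def stalkF (x : X) : X.Modules ⥤ Ab.{u} :=
  SheafOfModules.toSheaf X.ringCatSheaf ⋙
    (TopCat.Sheaf.forget Ab.{u} X.toTopCat ⋙ TopCat.Presheaf.stalkFunctor Ab.{u} x)

/-- Stalks commute with colimits. -/
theorem preservesColimitsOfShape_stalkF (x : X) (J : Type u) [SmallCategory J] :
    PreservesColimitsOfShape J (stalkF x) := by
  haveI : PreservesColimitsOfShape J (PresheafOfModules.toPresheaf.{u} X.ringCatSheaf.obj) :=
    inferInstance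
  haveI h₁ : PreservesColimitsOfShape J (SheafOfModules.toSheaf.{u} X.ringCatSheaf) :=
    Groth.Agent.SiteBase.toSheaf_preservesColimitsOfShape.{u} X.ringCatSheaf J
  haveI : ∀ U : Opens X.toTopCat, Decidable (x ∈ U) := fun _ => Classical.dec _
  haveI h₂ : PreservesColimitsOfShape J
      (TopCat.Sheaf.forget Ab.{u} X.toTopCat ⋙ TopCat.Presheaf.stalkFunctor Ab.{u} x) :=
    ((stalkSkyscraperSheafAdjunction (C := Ab.{u}) x).leftAdjoint_preservesColimits).preservesColimitsOfShape
  exact @comp_preservesColimitsOfShape _ _ _ _ _ _ _ _ _ _ h₁ h₂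

variable {J : Type u} [SmallCategory J] [IsFiltered J] {F : J ⥤ X.Modules} {c : Cocone F}

omit [IsFiltered J] in
lemma germ_ι {j : J} (W : X.Opens) (x : X) (hx : x ∈ W) (t : Γ(F.obj j, W)) :
    ((stalkF x).mapCocone c).ι.app j ((F.obj j).presheaf.germ W x hx t) =
      c.pt.presheaf.germ W x hx ((c.ι.app j).app W t) :=
  TopCat.Presheaf.stalkFunctor_map_germ_apply W x hx (c.ι.app j).mapPresheaf t

omit [IsFiltered J] in
lemma germ_map {j k : J} (g : j ⟶ k) (W : X.Opens) (x : X) (hx : x ∈ W) (t : Γ(F.obj j, W)) :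
    (F ⋙ stalkF x).map g ((F.obj j).presheaf.germ W x hx t) =
      (F.obj k).presheaf.germ W x hx ((F.map g).app W t) :=
  TopCat.Presheaf.stalkFunctor_map_germ_apply W x hx (F.map g).mapPresheaf t

/-- Every section of a filtered colimit comes from some stage locally. -/
theorem exists_local_rep (hc : IsColimit c) {V : X.Opens} (s : Γ(c.pt, V)) (x : X) (hx : x ∈ V) :
    ∃ (W : X.Opens) (hW : W ≤ V) (j : J) (t : Γ(F.obj j, W)),
      x ∈ W ∧ (c.ι.app j).app W t = c.pt.presheaf.map (homOfLE hW).op s := by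
  haveI := preservesColimitsOfShape_stalkF x J
  have h := isColimitOfPreserves (forget Ab.{u}) (isColimitOfPreserves (stalkF x) hc)
  obtain ⟨j, z, hz⟩ := Types.jointly_surjective _ h (c.pt.presheaf.germ V x hx s)
  obtain ⟨W₀, hxW₀, t₀, ht₀⟩ := TopCat.Presheaf.exists_germ_eq (F.obj j).presheaf (show (F.obj j).presheaf.stalk x from z)
  subst ht₀
  have heq : c.pt.presheaf.germ W₀ x hxW₀ ((c.ι.app j).app W₀ t₀) = c.pt.presheaf.germ V x hx s :=
    (germ_ι W₀ x hxW₀ t₀).symm.trans hz
  obtain ⟨W, hxW, i₁, i₂, hW⟩ := TopCat.Presheaf.germ_eq c.pt.presheaf x hxW₀ hx _ _ heq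
  refine ⟨W, i₂.le, j, (F.obj j).presheaf.map i₁.op t₀, hxW, ?_⟩
  exact (ConcreteCategory.congr_hom ((c.ι.app j).mapPresheaf.naturality i₁.op) t₀).trans hW

/-- A section at a stage which vanishes in the colimit vanishes at a later stage, locally. -/
theorem exists_local_zero (hc : IsColimit c) {V : X.Opens} {j : J} (t : Γ(F.obj j, V))
    (h0 : (c.ι.app j).app V t = 0) (x : X) (hx : x ∈ V) :
    ∃ (W : X.Opens) (hW : W ≤ V) (k : J) (g : j ⟶ k),
      x ∈ W ∧ (F.map g).app W ((F.obj j).presheaf.map (homOfLE hW).op t) = 0 := by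
  haveI := preservesColimitsOfShape_stalkF x J
  have h := isColimitOfPreserves (forget Ab.{u}) (isColimitOfPreserves (stalkF x) hc)
  have heq : ((stalkF x).mapCocone c).ι.app j ((F.obj j).presheaf.germ V x hx t) =
      ((stalkF x).mapCocone c).ι.app j ((F.obj j).presheaf.germ V x hx 0) := by
    rw [germ_ι, germ_ι, h0, map_zero, map_zero, map_zero]
  obtain ⟨k, g, g', hk⟩ := (Types.FilteredColimit.isColimit_eq_iff _ h).1 heq
  change (F ⋙ stalkF x).map g ((F.obj j).presheaf.germ V x hx t) =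
    (F ⋙ stalkF x).map g' ((F.obj j).presheaf.germ V x hx 0) at hk
  rw [germ_map, germ_map, map_zero] at hk
  obtain ⟨W, hxW, i₁, i₂, hW⟩ := TopCat.Presheaf.germ_eq (F.obj k).presheaf x hx hx _ _ hk
  refine ⟨W, i₁.le, k, g, hxW, ?_⟩
  refine (ConcreteCategory.congr_hom ((F.map g).mapPresheaf.naturality i₁.op) t).trans ?_
  exact hW.trans (map_zero _)

/-- A section at a stage which vanishes in the colimit over a quasi-compact open vanishes at a later
stage. -/
theorem exists_map_eq_zero (hc : IsColimit c) {V : X.Opens} (hV : IsCompact (V : Set X)) {j : J}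
    (t : Γ(F.obj j, V)) (h0 : (c.ι.app j).app V t = 0) :
    ∃ (k : J) (g : j ⟶ k), (F.map g).app V t = 0 := by
  classical
  choose W hW k g hxW hk using fun x : (V : Set X) => exists_local_zero hc t h0 x.1 x.2
  obtain ⟨s, hs⟩ := hV.elim_finite_subcover (fun x => (W x : Set X)) (fun x => (W x).isOpen)
    (fun x hx => Set.mem_iUnion.2 ⟨⟨x, hx⟩, hxW ⟨x, hx⟩⟩)
  -- a common later stage
  have hstage : ∀ S : Finset (V : Set X), ∃ (m : J) (a : j ⟶ m), ∀ x ∈ S,
      (F.map a).app (W x) ((F.obj j).presheaf.map (homOfLE (hW x)).op t) = 0 := by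
    intro S
    induction S using Finset.induction_on with
    | empty => exact ⟨j, 𝟙 j, fun x hx => absurd hx (Finset.notMem_empty x)⟩
    | @insert x S _ ih =>
      obtain ⟨m, a, ha⟩ := ih
      obtain ⟨m', b, b', hm⟩ := IsFiltered.span a (g x)
      refine ⟨m', a ≫ b, fun y hy => ?_⟩
      rcases Finset.mem_insert.1 hy with rfl | hy
      · rw [hm, F.map_comp, Scheme.Modules.Hom.comp_app, ConcreteCategory.comp_apply, hk, map_zero]
      · rw [F.map_comp, Scheme.Modules.Hom.comp_app, ConcreteCategory.comp_apply, ha y hy, map_zero]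
  obtain ⟨m, a, ha⟩ := hstage s
  refine ⟨m, a, ?_⟩
  refine TopCat.Sheaf.eq_of_locally_eq' ⟨(F.obj m).presheaf, (F.obj m).isSheaf⟩
    (fun x : s => W x.1) V (fun x => homOfLE (hW x.1)) ?_ _ _ fun x => ?_
  · intro y hy
    obtain ⟨x, hx, hyx⟩ := Set.mem_iUnion₂.1 (hs hy)
    exact Opens.mem_iSup.2 ⟨⟨x, hx⟩, hyx⟩
  · rw [map_zero]
    exact (ConcreteCategory.congr_hom ((F.map a).mapPresheaf.naturality (homOfLE (hW x.1)).op) t).symm.trans
      (ha x.1 x.2)

/-- Every section of a filtered colimit over a quasi-compact open comes from some stage. -/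
theorem exists_rep [QuasiSeparatedSpace X] (hc : IsColimit c) {V : X.Opens}
    (hV : IsCompact (V : Set X)) (s : Γ(c.pt, V)) :
    ∃ (j : J) (t : Γ(F.obj j, V)), (c.ι.app j).app V t = s := by
  classical
  -- quasi-compact local representatives
  have hloc : ∀ x : (V : Set X), ∃ (W : X.Opens) (hW : W ≤ V) (j : J) (t : Γ(F.obj j, W)),
      x.1 ∈ W ∧ IsCompact (W : Set X) ∧ (c.ι.app j).app W t = c.pt.presheaf.map (homOfLE hW).op s := by
    intro x
    obtain ⟨W, hW, j, t, hxW, ht⟩ := exists_local_rep hc s x.1 x.2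
    obtain ⟨_, ⟨(W' : X.Opens), hW', rfl⟩, hxW', hW'W⟩ :=
      X.isBasis_affineOpens.exists_subset_of_mem_open hxW W.isOpen
    refine ⟨W', le_trans hW'W hW, j, (F.obj j).presheaf.map (homOfLE (show W' ≤ W from hW'W)).op t,
      hxW', hW'.isCompact, ?_⟩
    refine (ConcreteCategory.congr_hom ((c.ι.app j).mapPresheaf.naturality
      (homOfLE (show W' ≤ W from hW'W)).op) t).trans ?_
    refine (congrArg _ ht).trans ?_
    exact (ConcreteCategory.congr_hom (c.pt.presheaf.map_comp _ _) s).symm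
  choose W hW j t hxW hWc ht using hloc
  obtain ⟨S, hS⟩ := hV.elim_finite_subcover (fun x => (W x : Set X)) (fun x => (W x).isOpen)
    (fun x hx => Set.mem_iUnion.2 ⟨⟨x, hx⟩, hxW ⟨x, hx⟩⟩)
  -- a common stage
  obtain ⟨m, hm⟩ := IsFiltered.sup_objs_exists (S.image j)
  have a : ∀ x : S, j x.1 ⟶ m := fun x => (hm (Finset.mem_image_of_mem j x.2)).some
  let t' : ∀ x : S, Γ(F.obj m, W x.1) := fun x => (F.map (a x)).app (W x.1) (t x.1)
  have ht' : ∀ x : S, (c.ι.app m).app (W x.1) (t' x) = c.pt.presheaf.map (homOfLE (hW x.1)).op s := by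
    intro x
    rw [← ht x.1]
    exact ConcreteCategory.congr_hom (congrArg (fun φ => Scheme.Modules.Hom.app φ (W x.1)) (c.w (a x))) (t x.1)
  -- the differences on overlaps vanish at a later stage
  let d : ∀ p : S × S, Γ(F.obj m, W p.1.1 ⊓ W p.2.1) := fun p =>
    (F.obj m).presheaf.map (homOfLE (inf_le_left : W p.1.1 ⊓ W p.2.1 ≤ W p.1.1)).op (t' p.1) -
      (F.obj m).presheaf.map (homOfLE (inf_le_right : W p.1.1 ⊓ W p.2.1 ≤ W p.2.1)).op (t' p.2)
  have hd : ∀ p : S × S, (c.ι.app m).app _ (d p) = 0 := by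
    intro p
    simp only [d, map_sub]
    rw [sub_eq_zero]
    refine (ConcreteCategory.congr_hom ((c.ι.app m).mapPresheaf.naturality _) (t' p.1)).trans ?_
    refine Eq.trans ?_ (ConcreteCategory.congr_hom ((c.ι.app m).mapPresheaf.naturality _) (t' p.2)).symm
    refine (congrArg _ (ht' p.1)).trans ?_
    refine Eq.trans ?_ (congrArg _ (ht' p.2)).symm
    exact res_res c.pt _ _ _ _ s
  choose k g hg using fun p : S × S => exists_map_eq_zero hc
    ((hWc p.1.1).inter_of_isOpen (hWc p.2.1) (W p.1.1).isOpen (W p.2.1).isOpen) (d p) (hd p)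
  have hstage : ∀ P : Finset (S × S), ∃ (n : J) (b : m ⟶ n), ∀ p ∈ P, (F.map b).app _ (d p) = 0 := by
    intro P
    induction P using Finset.induction_on with
    | empty => exact ⟨m, 𝟙 m, fun x hx => absurd hx (Finset.notMem_empty x)⟩
    | @insert p P _ ih =>
      obtain ⟨n, b, hb⟩ := ih
      obtain ⟨n', e, e', he⟩ := IsFiltered.span b (g p)
      refine ⟨n', b ≫ e, fun q hq => ?_⟩
      rcases Finset.mem_insert.1 hq with rfl | hq
      · rw [he, F.map_comp, Scheme.Modules.Hom.comp_app, ConcreteCategory.comp_apply, hg, map_zero]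
      · rw [F.map_comp, Scheme.Modules.Hom.comp_app, ConcreteCategory.comp_apply, hb q hq, map_zero]
  obtain ⟨n, b, hb⟩ := hstage Finset.univ
  have hcov : V ≤ ⨆ x : S, W x.1 := by
    intro y hy
    obtain ⟨x, hx, hyx⟩ := Set.mem_iUnion₂.1 (hS hy)
    exact Opens.mem_iSup.2 ⟨⟨x, hx⟩, hyx⟩
  obtain ⟨σ, hσ, -⟩ := TopCat.Sheaf.existsUnique_gluing' ⟨(F.obj n).presheaf, (F.obj n).isSheaf⟩
    (fun x : S => W x.1) V (fun x => homOfLE (hW x.1)) hcov (fun x => (F.map b).app (W x.1) (t' x))
    (fun x y => by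
      rw [← sub_eq_zero]
      have := hb (x, y) (Finset.mem_univ _)
      simp only [d, map_sub] at this
      refine Eq.trans (congrArg₂ _ ?_ ?_) this
      · exact (ConcreteCategory.congr_hom ((F.map b).mapPresheaf.naturality _) (t' x)).symm
      · exact (ConcreteCategory.congr_hom ((F.map b).mapPresheaf.naturality _) (t' y)).symm)
  refine ⟨n, σ, TopCat.Sheaf.eq_of_locally_eq' ⟨c.pt.presheaf, c.pt.isSheaf⟩
    (fun x : S => W x.1) V (fun x => homOfLE (hW x.1)) hcov _ _ fun x => ?_⟩
  refine (ConcreteCategory.congr_hom ((c.ι.app n).mapPresheaf.naturality _) σ).symm.trans ?_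
  refine (congrArg _ (hσ x)).trans ?_
  refine (ConcreteCategory.congr_hom
    (congrArg (fun φ => Scheme.Modules.Hom.app φ (W x.1)) (c.w b)) (t' x)).trans ?_
  exact ht' x

end Groth.Agent.ModColimLib
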